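import Cfsg.Agent.Lib.Coprime.SylowNormalizes
import Cfsg.Agent.Lib.BlockHeights.PConstrainedCores
import Cfsg.Agent.Lib.Characters.PPrimeDegree
import Cfsg.Agent.Lib.Characters.PrincipalPSolvable
import Cfsg.Agent.Lib.Glauberman.Equivariance
import Cfsg.Agent.Lib.Glauberman.Above
import Cfsg.Agent.Lib.Glauberman.Conj
import Cfsg.Agent.Lib.CharMisc.RealDegreeBijection

/-!
# Characters of degree prime to p with degree prime to q

In a p-solvable and q-solvable group in which every irreducible character of degree prime to p has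
degree prime to q, the normaliser of a Sylow p-subgroup normalises a Sylow q-subgroup.
-/

set_option autoImplicit false
set_option linter.unusedSectionVars false
set_option linter.style.haveILetI false

open scoped ComplexConjugate Pointwise

namespace Cfsg.Agent.Lib.PrincipalTwoPrimes.CrossDegree

open Cfsg Cfsg.Agent.Lib Cfsg.Agent.Lib.Characters Cfsg.Agent.Lib.Glauberman
open Cfsg.Agent.Lib.BrauerPairs (transIrr transIrr_apply)

universe u

variable {X : Type u} [Group X] [Finite X] {p q : ℕ} [hp : Fact p.Prime] [hq : Fact q.Prime]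

/-- The hypothesis on degrees. -/
def Cross (p q : ℕ) (X : Type u) [Group X] : Prop :=
  ∀ χ : IrrCharacter X, ¬ p ∣ charDegree (χ : X → ℂ) → ¬ q ∣ charDegree (χ : X → ℂ)

theorem not_dvd_pPrimeCore_index (hpq : p ≠ q) (hps : IsPSolvable p X) (P : Sylow p X)
    (Q : Sylow q X) (hPQ : (P : Subgroup X) ≤ Subgroup.normalizer ((Q : Subgroup X) : Set X)) :
    ¬ q ∣ (pPrimeCore p X).index := by
  set K := pPrimeCore p X with hK
  haveI hKn : K.Normal := (Cores.pPrimeCore_mem p X).1
  set π := QuotientGroup.mk' K with hπd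
  have hπ : Function.Surjective π := QuotientGroup.mk'_surjective K
  set C := Cfsg.pCore p (X ⧸ K) with hC
  have hQK : (Q : Subgroup X).map π = ⊥ := by
    set Qb := Q.mapSurjective hπ with hQb
    set Pb := P.mapSurjective hπ with hPb
    have hn : (Pb : Subgroup (X ⧸ K)) ≤ Subgroup.normalizer ((Qb : Subgroup (X ⧸ K)) : Set (X ⧸ K)) := by
      rw [hPb, hQb, Sylow.coe_mapSurjective, Sylow.coe_mapSurjective]
      exact (Subgroup.map_mono hPQ).trans (Subgroup.le_normalizer_map π)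
    have hdis : Disjoint C (Qb : Subgroup (X ⧸ K)) :=
      IsPGroup.disjoint_of_ne p q hpq _ _ (Cores.pCore_isPGroup p _) Qb.isPGroup'
    have hle : (Qb : Subgroup (X ⧸ K)) ≤ Subgroup.centralizer (C : Set (X ⧸ K)) := by
      intro y hy
      rw [Subgroup.mem_centralizer_iff]
      intro c hc
      have h1 : c * y * c⁻¹ * y⁻¹ ∈ (Qb : Subgroup (X ⧸ K)) :=
        mul_mem ((Subgroup.mem_normalizer_iff.mp (hn (Cores.pCore_le_sylow Pb hc)) y).mp hy) (inv_mem hy)
      have h2 : c * (y * c⁻¹ * y⁻¹) ∈ C :=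
        mul_mem hc ((Cfsg.pCore_normal p _).conj_mem _ (inv_mem hc) y)
      have h3 : c * y * c⁻¹ * y⁻¹ = 1 :=
        Subgroup.disjoint_def.mp hdis (by simpa [mul_assoc] using h2) h1
      calc c * y = (c * y * c⁻¹ * y⁻¹) * (y * c) := by group
        _ = y * c := by rw [h3, one_mul]
    have hle2 := hle.trans (Blocks.centralizer_pCore_le_of_isPSolvable p
      (BlockHeights.isPSolvable_quot K hps) (Cores.pPrimeCore_quotient_pPrimeCore p X))
    have : (Qb : Subgroup (X ⧸ K)) = ⊥ := disjoint_self.mp (hdis.mono_left hle2)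
    rwa [hQb, Sylow.coe_mapSurjective] at this
  rw [Subgroup.map_eq_bot_iff, QuotientGroup.ker_mk'] at hQK
  exact fun hd => Q.not_dvd_index (hd.trans (Subgroup.index_dvd_of_le hQK))

theorem smul_iff {r : ℕ} (g : X) (R : Sylow r X) :
    g • R = R ↔ g ∈ Subgroup.normalizer ((R : Subgroup X) : Set X) :=
  Sylow.smul_eq_iff_mem_normalizer

theorem sylow_eq_of_normalizer_le (P : Sylow p X) (Q R : Sylow q X)
    (h : Subgroup.normalizer ((P : Subgroup X) : Set X) ≤ Subgroup.normalizer ((Q : Subgroup X) : Set X))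
    (hR : (P : Subgroup X) ≤ Subgroup.normalizer ((R : Subgroup X) : Set X)) : R = Q := by
  obtain ⟨g, rfl⟩ := MulAction.exists_smul_eq X Q R
  have hg : ∀ x ∈ (P : Subgroup X), g * x * g⁻¹ ∈
      Subgroup.normalizer (((g • Q : Sylow q X) : Subgroup X) : Set X) := by
    intro x hx
    rw [← smul_iff, smul_smul, inv_mul_cancel_right, mul_smul,
      (smul_iff _ _).2 (h (Subgroup.le_normalizer hx))]
  obtain ⟨k, hk, hkg⟩ := CharMisc.RealDegreeBijection.exists_mem_normalizer_mul P hR hg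
  have h1 := (smul_iff _ _).2 (h hkg)
  rw [mul_smul, (smul_iff _ _).2 hk] at h1
  exact h1

theorem sylow_le_of_index (hpq : p ≠ q) (hps : IsPSolvable p X) (P : Sylow p X) (Q : Sylow q X)
    (h : Subgroup.normalizer ((P : Subgroup X) : Set X) ≤ Subgroup.normalizer ((Q : Subgroup X) : Set X))
    {T : Subgroup X} (hPT : (P : Subgroup X) ≤ T) (hT : ¬ q ∣ T.index) : (Q : Subgroup X) ≤ T := by
  have hq' := not_dvd_pPrimeCore_index hpq hps P Q (Subgroup.le_normalizer.trans h)
  set K := pPrimeCore p X with hK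
  haveI hKn : K.Normal := (Cores.pPrimeCore_mem p X).1
  set R := T ⊓ K with hR
  have hRi : ¬ q ∣ R.index := by
    rw [← Subgroup.relIndex_mul_index (inf_le_left : R ≤ T)]
    refine Nat.Prime.not_dvd_mul hq.out (fun hd => hq' (hd.trans ?_)) hT
    rw [Subgroup.inf_relIndex_left]
    exact Subgroup.relIndex_dvd_index_of_normal K T
  have hPR : (P : Subgroup X) ≤ Subgroup.normalizer (R : Set X) := by
    intro x hx
    rw [Subgroup.mem_normalizer_iff]
    have hxT : x ∈ T := hPT hx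
    intro y
    refine ⟨fun hy => ⟨T.mul_mem (T.mul_mem hxT hy.1) (T.inv_mem hxT), hKn.conj_mem _ hy.2 x⟩,
      fun hy => ⟨?_, ?_⟩⟩
    · simpa [mul_assoc] using T.mul_mem (T.mul_mem (T.inv_mem hxT) hy.1) hxT
    · simpa [mul_assoc] using hKn.conj_mem _ hy.2 x⁻¹
  have hcop : (Nat.card (P : Subgroup X)).Coprime (Nat.card R) := by
    obtain ⟨n, hn⟩ := P.isPGroup'.exists_card_eq
    rw [hn]
    exact Nat.Coprime.pow_left _ (hp.out.coprime_iff_not_dvd.mpr fun hd =>
      Cores.not_dvd_card_pPrimeCore (hd.trans (Subgroup.card_dvd_of_le inf_le_right)))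
  haveI := P.isPGroup'.isNilpotent
  obtain ⟨S, hS⟩ := Coprime.exists_invariant_sylow hPR hcop (Or.inl inferInstance) q
  obtain ⟨Q', hQ'⟩ := Coprime.SylowNormalizes.exists_sylow_eq_map R hRi S
  rw [← sylow_eq_of_normalizer_le P Q Q' h (hQ' ▸ hS), hQ']
  exact (Subgroup.map_subtype_le _).trans inf_le_left

theorem minimal_normal_cases {r : ℕ} [hr : Fact r.Prime] (hs : IsPSolvable r X) (M : Subgroup X)
    [M.Normal] (hM : M ≠ ⊥)
    (hmin : ∀ M' : Subgroup X, M'.Normal → M' ≤ M → M' = ⊥ ∨ M' = M) :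
    IsPGroup r M ∨ (Nat.card M).Coprime r := by
  obtain ⟨n, H, h0, h1, hmono, hn, hf⟩ := hs
  by_contra hne
  push Not at hne
  have hall : ∀ i, M ⊓ H i = ⊥ := by
    intro i
    induction i using Fin.induction with
    | zero => rw [h0, inf_bot_eq]
    | succ i ih =>
      haveI := hn i.succ
      haveI := hn i.castSucc
      refine (hmin _ inferInstance inf_le_left).resolve_right fun he => ?_
      have hle : M ≤ H i.succ := inf_eq_left.mp he
      have hle2 : H i.castSucc ≤ H i.succ := hmono (Fin.castSucc_le_succ i)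
      have hd : Nat.card M ∣ (H i.castSucc).relIndex (H i.succ) := by
        have h2 : (H i.castSucc).relIndex (M ⊔ H i.castSucc) = Nat.card M := by
          rw [Subgroup.relIndex_sup_right, ← Subgroup.inf_relIndex_right, inf_comm, ih,
            Subgroup.relIndex_bot_left]
        rw [← h2, ← Subgroup.relIndex_mul_relIndex _ _ _ le_sup_right (sup_le hle hle2)]
        exact dvd_mul_right _ _
      rcases hf i with ⟨m, hm⟩ | hm
      · obtain ⟨j, -, hj⟩ := (Nat.dvd_prime_pow hr.out).mp (hm ▸ hd)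
        exact hne.1 (IsPGroup.of_card hj)
      · exact hne.2 (hm.coprime_dvd_left hd)
  exact hM (by simpa [h1] using hall (Fin.last n))

/-- A subgroup meeting every conjugacy class is the whole group. -/
theorem eq_top_of_forall_conj {Y : Type u} [Group Y] [Finite Y] (H : Subgroup Y)
    (h : ∀ y : Y, ∃ g : Y, g⁻¹ * y * g ∈ H) : H = ⊤ := by
  classical
  haveI := Fintype.ofFinite Y
  haveI := Fintype.ofFinite (Y ⧸ H)
  haveI := Fintype.ofFinite (MulAction.orbitRel.Quotient Y (Y ⧸ H))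
  haveI : ∀ y : Y, Fintype (MulAction.fixedBy (Y ⧸ H) y) := fun y => Fintype.ofFinite _
  have hsum := MulAction.sum_card_fixedBy_eq_card_orbits_mul_card_group Y (Y ⧸ H)
  have horb : Fintype.card (MulAction.orbitRel.Quotient Y (Y ⧸ H)) = 1 := by
    rw [Fintype.card_eq_one_iff]
    refine ⟨Quotient.mk'' (QuotientGroup.mk 1), fun z => ?_⟩
    induction z using Quotient.inductionOn' with | h a => ?_
    exact Quotient.sound' (MulAction.orbitRel_apply.mpr (MulAction.exists_smul_eq Y _ a))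
  rw [horb, one_mul] at hsum
  rw [← Subgroup.index_eq_one]
  have hone : ∀ y : Y, 1 ≤ Fintype.card (MulAction.fixedBy (Y ⧸ H) y) := by
    intro y
    obtain ⟨g, hg⟩ := h y
    refine Fintype.card_pos_iff.mpr ⟨⟨QuotientGroup.mk g, ?_⟩⟩
    show (QuotientGroup.mk (y * g) : Y ⧸ H) = QuotientGroup.mk g
    rw [QuotientGroup.eq]
    simpa [mul_assoc] using H.inv_mem hg
  have h1 : Fintype.card (MulAction.fixedBy (Y ⧸ H) (1 : Y)) = H.index := by
    rw [Subgroup.index_eq_card, Nat.card_eq_fintype_card]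
    exact Fintype.card_congr (Equiv.subtypeUnivEquiv fun a => one_smul Y a)
  rw [← Finset.add_sum_erase _ _ (Finset.mem_univ (1 : Y)), h1] at hsum
  have h2 := Finset.card_nsmul_le_sum (Finset.univ.erase (1 : Y))
    (fun y => Fintype.card (MulAction.fixedBy (Y ⧸ H) y)) 1 (fun y _ => hone y)
  rw [smul_eq_mul, mul_one, Finset.card_erase_of_mem (Finset.mem_univ _), Finset.card_univ] at h2
  have h3 : 0 < Fintype.card Y := Fintype.card_pos
  have h4 : 0 < H.index := Nat.pos_of_ne_zero Subgroup.index_ne_zero_of_finite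
  omega

/-- Fixed points of a coprime p-group are fixed by an invariant q-group when invariant characters
are. -/
theorem fixed_le_fixed {Γ : Type u} [Group Γ] [Finite Γ] (N P Q : Subgroup Γ) [N.Normal]
    (hP : IsPGroup p P) (hQ : IsPGroup q Q) (hPQ : P ≤ Subgroup.normalizer (Q : Set Γ))
    (hNp : ¬ p ∣ Nat.card N) (hNq : ¬ q ∣ Nat.card N)
    (hinv : ∀ θ : IrrCharacter N, (∀ x ∈ P, conjFun N x θ.1 = θ.1) →
      ∀ y ∈ Q, conjFun N y θ.1 = θ.1) :
    ∀ c ∈ N, c ∈ Subgroup.centralizer (P : Set Γ) → c ∈ Subgroup.centralizer (Q : Set Γ) := by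
  classical
  haveI := Fintype.ofFinite N
  have hnP : ∀ s ∈ P, ∀ g ∈ N, s * g * s⁻¹ ∈ N := fun s _ g hg =>
    (inferInstance : N.Normal).conj_mem g hg s
  have hnQ : ∀ s ∈ Q, ∀ g ∈ N, s * g * s⁻¹ ∈ N := fun s _ g hg =>
    (inferInstance : N.Normal).conj_mem g hg s
  set φP := Glauberman.conjHom N P hnP with hφP
  set φQ := Glauberman.conjHom N Q hnQ with hφQ
  haveI := Fintype.ofFinite (fixedSub φP)
  haveI := Fintype.ofFinite (fixedSub φQ)
  have hstab : ∀ a, ∀ c ∈ fixedSub φQ, φP a c ∈ fixedSub φQ := by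
    intro a c hc
    rw [hφQ, mem_fixedSub_conjHom] at hc ⊢
    intro s hs
    have hs' : (a : Γ)⁻¹ * s * (a : Γ) ∈ Q := by
      have := (Subgroup.mem_normalizer_iff.mp
        ((Subgroup.normalizer (Q : Set Γ)).inv_mem (hPQ a.2)) s).mp hs
      simpa using this
    have h := hc _ hs'
    show s * ((a : Γ) * (c : Γ) * (a : Γ)⁻¹) * s⁻¹ = (a : Γ) * (c : Γ) * (a : Γ)⁻¹
    calc s * ((a : Γ) * (c : Γ) * (a : Γ)⁻¹) * s⁻¹
        = (a : Γ) * (((a : Γ)⁻¹ * s * a) * c * ((a : Γ)⁻¹ * s * a)⁻¹) * (a : Γ)⁻¹ := by group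
      _ = _ := by rw [h]
  set ψ := restrictAct φP (fixedSub φQ) hstab with hψ
  haveI := Fintype.ofFinite (fixedSub ψ)
  have hCq : ¬ p ∣ Nat.card (fixedSub φQ) := fun hd =>
    hNp (hd.trans (Subgroup.card_subgroup_dvd_card _))
  obtain ⟨π, hπ, -⟩ := exists_glauberman φQ hQ hNq
  obtain ⟨πP, -, -⟩ := exists_glauberman φP hP hNp
  obtain ⟨πD, -, -⟩ := exists_glauberman ψ hP hCq
  have hQinv : ∀ θ : InvIrr φP, IsInv φQ θ.1.1 := by
    intro θ s n
    have h := hinv θ.1 (fun x hx => funext fun k => θ.2 ⟨x, hx⟩ k) s s.2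
    conv_rhs => rw [← h]
    rfl
  have hequiv : ∀ (θ : InvIrr φQ) (a : P),
      IsInv φQ (transIrr (φP a) θ.1).1 ∧ ∀ θ' : InvIrr φQ, θ'.1 = transIrr (φP a) θ.1 →
        π θ' = transIrr (ψ a) (π θ) := by
    intro θ a
    refine ⟨fun s n => ?_, fun θ' h => apply_transIrr φQ π hπ (φP a) (ψ a) (fun c => rfl) θ θ' h⟩
    show θ.1.1 ((φP a).symm (φQ s n)) = θ.1.1 ((φP a).symm n)
    have hs : (a : Γ)⁻¹ * s * (a : Γ) ∈ Q := by
      have := (Subgroup.mem_normalizer_iff.mp
        ((Subgroup.normalizer (Q : Set Γ)).inv_mem (hPQ a.2)) (s : Γ)).mp s.2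
      simpa using this
    rw [← θ.2 ⟨_, hs⟩ ((φP a).symm n)]
    refine congrArg _ ((φP a).injective ?_)
    rw [MulEquiv.apply_symm_apply]
    refine Subtype.ext ?_
    rw [hφQ, hφP, conjHom_apply, conjHom_apply, conjHom_apply]
    have hn : (a : Γ) * (((Glauberman.conjHom N P hnP a).symm n : N) : Γ) * (a : Γ)⁻¹ = (n : Γ) :=
      congrArg Subtype.val ((Glauberman.conjHom N P hnP a).apply_symm_apply n)
    rw [← hn]
    simp [mul_assoc]
  let F : InvIrr φP → InvIrr ψ := fun θ => ⟨π ⟨θ.1, hQinv θ⟩, by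
    intro a c
    have h1 : θ.1 = transIrr (φP a) θ.1 := Subtype.ext (funext fun n => by
      obtain ⟨m, rfl⟩ := (φP a).surjective n
      rw [transIrr_apply]
      exact θ.2 a m)
    have h2 := (hequiv ⟨θ.1, hQinv θ⟩ a).2 ⟨θ.1, hQinv θ⟩ h1
    conv_lhs => rw [h2]
    exact transIrr_apply _ _ _⟩
  have hFb : Function.Bijective F := by
    refine ⟨fun θ η h => ?_, fun β => ?_⟩
    · have := π.injective (congrArg Subtype.val h)
      exact Subtype.ext (congrArg (fun z : InvIrr φQ => z.1) this)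
    · refine ⟨⟨(π.symm β.1).1, fun a n => ?_⟩, Subtype.ext ?_⟩
      · obtain ⟨hi, he⟩ := hequiv (π.symm β.1) a
        have h1 := he ⟨_, hi⟩ rfl
        have h2 : transIrr (ψ a) (π (π.symm β.1)) = π (π.symm β.1) := by
          rw [π.apply_symm_apply]
          refine Subtype.ext (funext fun c => ?_)
          obtain ⟨d, rfl⟩ := (ψ a).surjective c
          rw [transIrr_apply]
          exact (β.2 a d).symm
        have h3 := π.injective (h1.trans h2)
        have h4 : transIrr (φP a) (π.symm β.1).1 = (π.symm β.1).1 := congrArg Subtype.val h3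
        conv_lhs => rw [← h4]
        exact transIrr_apply _ _ _
      · show π ⟨(π.symm β.1).1, _⟩ = β.1
        exact π.apply_symm_apply β.1
  have hcard : Nat.card (ConjClasses (fixedSub φP)) = Nat.card (ConjClasses (fixedSub ψ)) := by
    rw [← card_irrCharacter, ← card_irrCharacter, ← Nat.card_congr πP, ← Nat.card_congr πD]
    exact Nat.card_congr (Equiv.ofBijective F hFb)
  -- the map of classes
  let ι : fixedSub ψ →* fixedSub φP :=
    { toFun := fun d => ⟨((d : fixedSub φQ) : N), fun a => congrArg Subtype.val (d.2 a)⟩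
      map_one' := rfl
      map_mul' := fun _ _ => rfl }
  have hinj : Function.Injective (ConjClasses.map ι) := by
    intro K K' h
    obtain ⟨c, rfl⟩ := ConjClasses.mk_surjective K
    obtain ⟨c', rfl⟩ := ConjClasses.mk_surjective K'
    have h1 : IsConj (ι c) (ι c') := ConjClasses.mk_eq_mk_iff_isConj.1 h
    have h2 : IsConj ((c : fixedSub φQ) : N) ((c' : fixedSub φQ) : N) :=
      (fixedSub φP).subtype.map_isConj h1
    exact ConjClasses.mk_eq_mk_iff_isConj.2
      (isConj_of_isConj ψ hP hCq (isConj_of_isConj φQ hQ hNq h2))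
  have hsurj := ((Nat.bijective_iff_injective_and_card _).mpr ⟨hinj, hcard.symm⟩).2
  have htop : ι.range = ⊤ := eq_top_of_forall_conj _ fun y => by
    obtain ⟨K, hK⟩ := hsurj (ConjClasses.mk y)
    obtain ⟨d, rfl⟩ := ConjClasses.mk_surjective K
    obtain ⟨g, hg⟩ := isConj_iff.1 (ConjClasses.mk_eq_mk_iff_isConj.1 hK)
    exact ⟨g, ⟨d, by rw [← hg]; group⟩⟩
  intro c hcN hcP
  have hc : (⟨c, hcN⟩ : N) ∈ fixedSub φP := (mem_fixedSub_conjHom hnP).2 fun s hs =>
    mul_inv_eq_iff_eq_mul.2 (Subgroup.mem_centralizer_iff.1 hcP s hs)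
  obtain ⟨d, hd⟩ : (⟨_, hc⟩ : fixedSub φP) ∈ ι.range := htop ▸ Subgroup.mem_top _
  refine Subgroup.mem_centralizer_iff.2 fun y hy => mul_inv_eq_iff_eq_mul.1 ?_
  have hd' : ((d : fixedSub φQ) : N) = ⟨c, hcN⟩ := congrArg Subtype.val hd
  have := (mem_fixedSub_conjHom hnQ).1 (d : fixedSub φQ).2 y hy
  rwa [hd'] at this

/-- A character of degree prime to p over an invariant character of a normal subgroup. -/
theorem sylow_le_inertia (hpq : p ≠ q) (hps : IsPSolvable p X) (hX : Cross p q X)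
    (N : Subgroup X) [N.Normal] [Fintype N] (P : Sylow p X) (Q : Sylow q X)
    (hπ : Function.Surjective (QuotientGroup.mk' N))
    (hn : Subgroup.normalizer (((P.mapSurjective hπ : Sylow p (X ⧸ N)) : Subgroup (X ⧸ N)) : Set (X ⧸ N)) ≤
      Subgroup.normalizer (((Q.mapSurjective hπ : Sylow q (X ⧸ N)) : Subgroup (X ⧸ N)) : Set (X ⧸ N)))
    (Y : Subgroup X) (hNY : N ≤ Y) (hPY : (P : Subgroup X) ≤ Y) (η : Y → ℂ) (hη : IsIrrCharacter Y η)
    {d : ℕ} (hd : η 1 = d) (hpd : ¬ p ∣ d) (θ : N → ℂ) (hθ : IsIrrCharacter N θ)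
    (hres : ∀ n : N, η ⟨n, hNY n.2⟩ = θ n) (hPθ : ∀ x ∈ (P : Subgroup X), conjFun N x θ = θ) :
    (Q : Subgroup X) ≤ inertia N θ := by
  classical
  haveI := Fintype.ofFinite X
  haveI := Fintype.ofFinite Y
  obtain ⟨χ, hχ, hχp⟩ := exists_constituent_not_dvd (p := p)
    (IsCharacter.indFun Y (IsIrrCharacter.isCharacter hη))
    (d := Y.index * d) (by rw [indFun_one, hd, Nat.cast_mul])
    (hp.out.not_dvd_mul (fun h => P.not_dvd_index (h.trans (Subgroup.index_dvd_of_le hPY))) hpd)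
  have h1 : classInner (fun y : Y => (χ : X → ℂ) y) η ≠ 0 := fun h => hχ (by
    rw [classInner_indFun Y η (irr_isClassFunction χ), ← classInner_conj_symm, h, map_zero])
  obtain ⟨r, hr, hsum⟩ := IsCharacter.exists_add_of_classInner_ne_zero
    (IsCharacter.restrict (irr_isCharacter χ) Y) hη h1
  have hθc := IsIrrCharacter.isCharacter hθ
  have h2 : classInner (fun n : N => (χ : X → ℂ) n) θ ≠ 0 := by
    have he : (fun n : N => (χ : X → ℂ) n) = θ + r ∘ Subgroup.inclusion hNY := funext fun n => by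
      have h := congrFun hsum ⟨n, hNY n.2⟩
      simp only [Pi.add_apply, hres] at h
      exact h
    rw [he]
    exact IsCharacter.classInner_ne_zero_of_add hθc (IsCharacter.comp hr _) hθc
      (by rw [IsIrrCharacter.classInner_self hθ]; exact one_ne_zero)
  obtain ⟨e, he⟩ := IsCharacter.exists_classInner_nat (IsCharacter.restrict (irr_isCharacter χ) N) hθc
  obtain ⟨t, -, ht⟩ := IsIrrCharacter.exists_apply_one hθ
  have hdeg := degree_eq N χ.2 hθ h2
  rw [he, ht] at hdeg
  have hI : ¬ q ∣ (inertia N θ).index := fun h => hX χ hχp (by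
    rw [charDegree_eq_of_apply_one (n := e * (inertia N θ).index * t)
      (by rw [hdeg]; push_cast; rfl)]
    exact dvd_mul_of_dvd_left (dvd_mul_of_dvd_right h _) _)
  have hNI : N ≤ inertia N θ := le_inertia N (IsCharacter.isClassFunction hθc)
  have hle := sylow_le_of_index hpq (BlockHeights.isPSolvable_quot N hps) (P.mapSurjective hπ)
    (Q.mapSurjective hπ) hn (T := (inertia N θ).map (QuotientGroup.mk' N))
    (by rw [Sylow.coe_mapSurjective]; exact Subgroup.map_mono hPθ)
    (fun h => hI (h.trans ((inertia N θ).index_map_dvd hπ)))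
  rw [Sylow.coe_mapSurjective, Subgroup.map_le_iff_le_comap, Subgroup.comap_map_eq,
    QuotientGroup.ker_mk', sup_eq_left.mpr hNI] at hle
  exact hle

theorem exists_normalizer_le (hpq : p ≠ q) : ∀ (n : ℕ) (X : Type u) [Group X] [Finite X],
    Nat.card X ≤ n → IsPSolvable p X → IsPSolvable q X → Cross p q X →
    ∃ (P : Sylow p X) (Q : Sylow q X), Subgroup.normalizer ((P : Subgroup X) : Set X) ≤
      Subgroup.normalizer ((Q : Subgroup X) : Set X) := by
  intro n
  induction n with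
  | zero =>
    intro X _ _ hn
    exact absurd hn (Nat.not_le.mpr Nat.card_pos)
  | succ n ih =>
  intro X _ _ hn hps hqs hX
  classical
  haveI := Fintype.ofFinite X
  by_cases htriv : Nat.card X = 1
  · haveI := (Nat.card_eq_one_iff_unique.mp htriv).1
    refine ⟨default, default, fun x _ => ?_⟩
    rw [Subsingleton.elim x 1]
    exact Subgroup.one_mem _
  obtain ⟨N, -, hNn, hN1, hNmin⟩ := LocalEven2.exists_minimal_normal_le
    (inferInstance : (⊤ : Subgroup X).Normal)
    (fun h => htriv (by rw [← Subgroup.card_top (G := X), h, Subgroup.card_bot]))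
  haveI := hNn
  haveI := Fintype.ofFinite N
  have hn' : Nat.card (X ⧸ N) ≤ n := by
    have h1 := Subgroup.card_eq_card_quotient_mul_card_subgroup N
    have h2 : 1 < Nat.card N := N.one_lt_card_iff_ne_bot.mpr hN1
    have h3 : 0 < Nat.card (X ⧸ N) := Nat.card_pos
    nlinarith
  set π := QuotientGroup.mk' N with hπd
  have hπ : Function.Surjective π := QuotientGroup.mk'_surjective N
  have hXbar : Cross p q (X ⧸ N) := by
    intro χ hχ
    let χ' : IrrCharacter X := ⟨_, IsIrrCharacter.comp_surjective χ.2 π hπ⟩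
    have h : charDegree (χ' : X → ℂ) = charDegree (χ : (X ⧸ N) → ℂ) := by
      simp [χ', charDegree, map_one]
    exact h ▸ hX χ' (h.symm ▸ hχ)
  obtain ⟨Pb, Qb, hnb⟩ := ih (X ⧸ N) hn' (BlockHeights.isPSolvable_quot N hps)
    (BlockHeights.isPSolvable_quot N hqs) hXbar
  obtain ⟨P, rfl⟩ := Sylow.mapSurjective_surjective hπ p Pb
  obtain ⟨Q, rfl⟩ := Sylow.mapSurjective_surjective hπ q Qb
  set QN := (Q : Subgroup X) ⊔ N with hQN
  have hcomap : ((Q : Subgroup X).map π).comap π = QN := by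
    rw [Subgroup.comap_map_eq, QuotientGroup.ker_mk']
  have hNQN : ∀ g ∈ Subgroup.normalizer ((P : Subgroup X) : Set X), ∀ y ∈ QN, g * y * g⁻¹ ∈ QN := by
    intro g hg y hy
    rw [← hcomap, Subgroup.mem_comap] at hy ⊢
    have h1 : π g ∈ Subgroup.normalizer (((P.mapSurjective hπ : Sylow p (X ⧸ N)) : Subgroup (X ⧸ N)) : Set (X ⧸ N)) := by
      rw [Sylow.coe_mapSurjective]
      exact Subgroup.le_normalizer_map π ⟨g, hg, rfl⟩
    have h2 := hnb h1
    rw [Sylow.coe_mapSurjective] at h2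
    rw [map_mul, map_mul, map_inv]
    exact (Subgroup.mem_normalizer_iff.mp h2 _).mp hy
  -- conjugates of `Q` under the normaliser of `P` are conjugates under `N`
  have hconj : ∀ g ∈ Subgroup.normalizer ((P : Subgroup X) : Set X), ∃ m ∈ N, g • Q = m • Q := by
    intro g hg
    have h1 : ((g • Q : Sylow q X) : Subgroup X) ≤ QN := by
      rw [Sylow.coe_subgroup_smul]
      rintro _ ⟨y, hy, rfl⟩
      exact hNQN g hg y (Subgroup.mem_sup_left hy)
    obtain ⟨k, hk⟩ := MulAction.exists_smul_eq QN (Q.subtype le_sup_left) ((g • Q).subtype h1)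
    rw [Sylow.smul_subtype] at hk
    have hk' := Sylow.subtype_injective hk
    obtain ⟨m, hm, y, hy, hk2⟩ : ∃ m ∈ N, ∃ y ∈ (Q : Subgroup X), m * y = (k : X) :=
      Subgroup.mem_sup_of_normal_left.mp (sup_comm (Q : Subgroup X) N ▸ k.2)
    refine ⟨m, hm, ?_⟩
    rw [← hk', Subgroup.smul_def, ← hk2, mul_smul,
      (smul_iff _ _).2 (Subgroup.le_normalizer hy)]
  rcases minimal_normal_cases hqs N hN1 hNmin with hNq | hNq
  · refine ⟨P, Q, fun g hg => ?_⟩
    obtain ⟨m, hm, hgQ⟩ := hconj g hg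
    rw [← smul_iff, hgQ, (smul_iff _ _)]
    exact Subgroup.le_normalizer (hNq.le_sylow_of_normal Q hm)
  have hNq' : ¬ q ∣ Nat.card N := hq.out.coprime_iff_not_dvd.mp hNq.symm
  have hdisQ : ∀ z, z ∈ N → z ∈ (Q : Subgroup X) → z = 1 := by
    intro z hz1 hz2
    have hd : Disjoint N (Q : Subgroup X) := by
      rw [disjoint_iff]
      refine Subgroup.inf_eq_bot_of_coprime ?_
      obtain ⟨a, ha⟩ := Q.isPGroup'.exists_card_eq
      rw [ha]
      exact hNq.pow_right a
    exact Subgroup.disjoint_def.mp hd hz1 hz2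
  have hnormC : ∀ z ∈ N, z ∈ Subgroup.normalizer ((Q : Subgroup X) : Set X) →
      z ∈ Subgroup.centralizer ((Q : Subgroup X) : Set X) := by
    intro z hz hzn
    refine Subgroup.mem_centralizer_iff.mpr fun y hy => ?_
    have h1 : z * y * z⁻¹ * y⁻¹ ∈ (Q : Subgroup X) :=
      mul_mem ((Subgroup.mem_normalizer_iff.mp hzn y).mp hy) (inv_mem hy)
    have h2 : z * (y * z⁻¹ * y⁻¹) ∈ N := N.mul_mem hz (hNn.conj_mem _ (N.inv_mem hz) y)
    have h3 := hdisQ _ h2 (by simpa [mul_assoc] using h1)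
    have h4 : z * y * z⁻¹ * y⁻¹ = 1 := by rw [← h3]; group
    calc y * z = (z * y * z⁻¹ * y⁻¹) * (y * z) := by rw [h4, one_mul]
      _ = z * y := by group
  rcases minimal_normal_cases hps N hN1 hNmin with hNp | hNp
  · -- an elementary abelian p-group
    have hNP : N ≤ (P : Subgroup X) := hNp.le_sylow_of_normal P
    haveI := hNp.isNilpotent
    obtain ⟨r, N', -, hN'n, hN'1, hN'N, hN'ab, -, -⟩ :=
      Coprime.exists_normal_abelian_pgroup_le hN1 (inferInstance : Group.IsSolvable N)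
    obtain rfl : N' = N := (hNmin N' hN'n hN'N).resolve_left hN'1
    have hab : ∀ a b : N', a * b = b * a := fun a b => hN'ab.is_comm.comm a b
    refine ⟨P, Q, fun g hg => ?_⟩
    obtain ⟨m, hm, hgQ⟩ := hconj g hg
    rw [← smul_iff, hgQ, (smul_iff _ _)]
    clear hgQ hg g
    revert m
    by_contra hcon
    push Not at hcon
    obtain ⟨m₁, hm₁, hm₁Q⟩ := hcon
    set P1 := ((P : Subgroup X) ⊓ Subgroup.normalizer ((Q : Subgroup X) : Set X)).subgroupOf P
      with hP1
    have hP1ne : P1 ≠ ⊤ := fun h => hm₁Q ((Subgroup.subgroupOf_eq_top.mp h) (hNP hm₁)).2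
    obtain ⟨M, hM, hP1M⟩ := (IsCoatomic.eq_top_or_exists_le_coatom P1).resolve_left hP1ne
    haveI hMn : M.Normal := Subgroup.NormalizerCondition.normal_of_coatom M
      (by haveI := P.isPGroup'.isNilpotent; exact Group.normalizerCondition_of_isNilpotent) hM
    have hMc : commutator (P : Subgroup X) ≤ M := by
      obtain ⟨x, hx⟩ : ∃ x : (P : Subgroup X), x ∉ M :=
        not_forall.1 fun h => hM.1 ((Subgroup.eq_top_iff' M).2 h)
      exact Subgroup.Normal.commutator_le_of_self_sup_commutative_eq_top (H := Subgroup.zpowers x)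
        (hM.2 _ (left_lt_sup.2 fun h => hx (h (Subgroup.mem_zpowers x)))) inferInstance
    obtain ⟨μ, hμ1, hμM⟩ := exists_irr_ne_one_trivial_on M hM.1
    have hμdeg : (μ : ↥(P : Subgroup X) → ℂ) 1 = 1 := by
      obtain ⟨η, hη, hμη⟩ := IsIrrCharacter.exists_quotient μ.2 M hμM
      rw [congrFun hμη 1, Function.comp_apply, map_one]
      refine IsIrrCharacter.apply_one_of_comm ?_ hη
      exact fun a b => ((Subgroup.Normal.quotient_commutative_iff_commutator_le).2 hMc).is_comm.comm a b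
    obtain ⟨lam, hlam⟩ := IsCharacter.exists_hom_of_apply_one (irr_isCharacter μ) hμdeg
    have hlamM : ∀ z ∈ M, lam z = 1 := fun z hz => by
      have h := hμM z hz
      rw [hμdeg, congrFun hlam z] at h
      exact Units.ext h
    let l : N' →* ℂˣ := lam.comp (Subgroup.inclusion hNP)
    have hQI : (Q : Subgroup X) ≤ inertia N' (fun z => (l z : ℂ)) :=
      sylow_le_inertia hpq hps hX N' P Q hπ hnb (P : Subgroup X) hNP le_rfl _
        (isIrrCharacter_unitsHom lam) (d := 1) (by simp) hp.out.not_dvd_one _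
        (isIrrCharacter_unitsHom l) (fun z => rfl) (fun x hx => funext fun z => by
          show ((lam _ : ℂˣ) : ℂ) = ((lam _ : ℂˣ) : ℂ)
          have : Subgroup.inclusion hNP ⟨x * (z : X) * x⁻¹, hNn.conj_mem z z.2 x⟩ =
              (⟨x, hx⟩ : ↥(P : Subgroup X)) * Subgroup.inclusion hNP z * (⟨x, hx⟩)⁻¹ :=
            Subtype.ext rfl
          rw [this, map_mul, map_mul, map_inv, mul_comm (lam ⟨x, hx⟩), mul_inv_cancel_right])
    haveI := Fintype.ofFinite (Q : Subgroup X)
    let _ : CommGroup N' := { (inferInstance : Group N') with mul_comm := hab }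
    have hl : ∀ z : N', l z = 1 := by
      intro z
      let w : N' := ∏ y : (Q : Subgroup X), MulAut.conjNormal (y : X) z
      have hw : (w : X) ∈ Subgroup.normalizer ((Q : Subgroup X) : Set X) := by
        refine Subgroup.centralizer_le_normalizer _ (Subgroup.mem_centralizer_iff.mpr fun y hy => ?_)
        have h1 : (MulAut.conjNormal y : MulAut N') w = w := by
          show (MulAut.conjNormal y : MulAut N') (∏ t : (Q : Subgroup X), _) = _
          rw [map_prod]
          refine Fintype.prod_equiv (Equiv.mulLeft ⟨y, hy⟩) _ _ fun t => ?_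
          rw [← MulAut.mul_apply, ← map_mul]
          rfl
        have := congrArg Subtype.val h1
        rw [MulAut.conjNormal_apply] at this
        exact mul_inv_eq_iff_eq_mul.mp this
      have h2 : l w = 1 := hlamM _ (hP1M ⟨hNP w.2, hw⟩)
      have h3 : l w = l z ^ Fintype.card (Q : Subgroup X) := by
        rw [map_prod, Finset.prod_eq_pow_card, Finset.card_univ]
        intro y _
        exact Units.ext (congrFun ((mem_inertia_iff N').mp (hQI y.2)) z)
      obtain ⟨a, ha⟩ := Q.isPGroup'.exists_card_eq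
      obtain ⟨b, hb⟩ := hNp z
      refine orderOf_eq_one_iff.mp (Nat.eq_one_of_dvd_coprimes
        ((Nat.coprime_primes hp.out hq.out).mpr hpq |>.pow b a) ?_ ?_)
      · exact orderOf_dvd_of_pow_eq_one (by rw [← map_pow, hb, map_one])
      · rw [← ha, Nat.card_eq_fintype_card]
        exact orderOf_dvd_of_pow_eq_one (by rw [← h3, h2])
    -- hence `N'` lies in `M`, so `P ≤ N' P1 ≤ M`
    apply hμ1
    funext x
    rw [hlam]
    obtain ⟨k, hk, hxQ⟩ := hconj x (Subgroup.le_normalizer x.2)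
    have hkx : k⁻¹ * (x : X) ∈ Subgroup.normalizer ((Q : Subgroup X) : Set X) := by
      rw [← smul_iff, mul_smul, hxQ, inv_smul_smul]
    have hxM : lam (⟨k⁻¹ * (x : X), mul_mem (inv_mem (hNP hk)) x.2⟩ : ↥(P : Subgroup X)) = 1 :=
      hlamM _ (hP1M ⟨(P : Subgroup X).mul_mem ((P : Subgroup X).inv_mem (hNP hk)) x.2, hkx⟩)
    have hsplit : x = Subgroup.inclusion hNP ⟨k, hk⟩ *
        (⟨k⁻¹ * (x : X), mul_mem (inv_mem (hNP hk)) x.2⟩ : ↥(P : Subgroup X)) :=
      Subtype.ext (by simp)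
    show ((lam x : ℂˣ) : ℂ) = 1
    rw [hsplit, map_mul, hxM, mul_one]
    show ((l ⟨k, hk⟩ : ℂˣ) : ℂ) = 1
    rw [hl, Units.val_one]
  · -- a group of order prime to p and q
    have hNp' : ¬ p ∣ Nat.card N := hp.out.coprime_iff_not_dvd.mp hNp.symm
    have hPQN : (P : Subgroup X) ≤ Subgroup.normalizer (QN : Set X) := by
      intro x hx
      rw [Subgroup.mem_normalizer_iff]
      refine fun y => ⟨hNQN x (Subgroup.le_normalizer hx) y, fun hy => ?_⟩
      simpa [mul_assoc] using hNQN x⁻¹ (Subgroup.le_normalizer (inv_mem hx)) _ hy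
    have hQNp : ¬ p ∣ Nat.card QN := by
      intro h
      have h1 := Cores.card_sup_mul_card_inf (Q : Subgroup X) N
      have h2 : p ∣ Nat.card (Q : Subgroup X) * Nat.card N := h1 ▸ h.mul_right _
      rcases hp.out.dvd_mul.mp h2 with h3 | h3
      · obtain ⟨a, ha⟩ := Q.isPGroup'.exists_card_eq
        exact hpq ((Nat.prime_dvd_prime_iff_eq hp.out hq.out).mp (hp.out.dvd_of_dvd_pow (ha ▸ h3)))
      · exact hNp' h3
    haveI := P.isPGroup'.isNilpotent
    obtain ⟨S, hS⟩ := Coprime.exists_invariant_sylow hPQN (by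
      obtain ⟨a, ha⟩ := P.isPGroup'.exists_card_eq
      rw [ha]
      exact Nat.Coprime.pow_left _ (hp.out.coprime_iff_not_dvd.mpr hQNp)) (Or.inl inferInstance) q
    obtain ⟨Q₁, hQ₁⟩ := Coprime.SylowNormalizes.exists_sylow_eq_map QN
      (fun h => Q.not_dvd_index (h.trans (Subgroup.index_dvd_of_le le_sup_left))) S
    obtain ⟨k, hk⟩ := MulAction.exists_smul_eq QN (Q.subtype le_sup_left)
      (Q₁.subtype (hQ₁ ▸ Subgroup.map_subtype_le _))
    rw [Sylow.smul_subtype] at hk
    have hk' := Sylow.subtype_injective hk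
    obtain ⟨m, hm, y, hy, hk2⟩ : ∃ m ∈ N, ∃ y ∈ (Q : Subgroup X), m * y = (k : X) :=
      Subgroup.mem_sup_of_normal_left.mp (sup_comm (Q : Subgroup X) N ▸ k.2)
    have hQ₁m : Q₁ = m • Q := by
      rw [← hk', Subgroup.smul_def, ← hk2, mul_smul,
        (smul_iff _ _).2 (Subgroup.le_normalizer hy)]
    have hmap : Q₁.mapSurjective hπ = Q.mapSurjective hπ := by
      refine Sylow.ext ?_
      rw [Sylow.coe_mapSurjective, Sylow.coe_mapSurjective, hQ₁m, Sylow.coe_subgroup_smul]
      apply le_antisymm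
      · rintro _ ⟨_, ⟨z, hz, rfl⟩, rfl⟩
        refine ⟨z, hz, ?_⟩
        show π z = π (m * z * m⁻¹)
        rw [map_mul, map_mul, map_inv, show π m = 1 from (QuotientGroup.eq_one_iff m).mpr hm,
          one_mul, inv_one, mul_one]
      · rintro _ ⟨z, hz, rfl⟩
        refine ⟨m * z * m⁻¹, ⟨z, hz, rfl⟩, ?_⟩
        rw [map_mul, map_mul, map_inv, show π m = 1 from (QuotientGroup.eq_one_iff m).mpr hm,
          one_mul, inv_one, mul_one]
    have hPQ₁ : (P : Subgroup X) ≤ Subgroup.normalizer ((Q₁ : Subgroup X) : Set X) := hQ₁ ▸ hS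
    rw [← hmap] at hnb
    have hfix : ∀ c ∈ N, c ∈ Subgroup.centralizer ((P : Subgroup X) : Set X) →
        c ∈ Subgroup.centralizer ((Q₁ : Subgroup X) : Set X) := by
      refine fixed_le_fixed (p := p) (q := q) N (P : Subgroup X) (Q₁ : Subgroup X) P.isPGroup'
        Q₁.isPGroup' hPQ₁ hNp' hNq' fun θ hθ y hy => ?_
      obtain ⟨η, hη, hres⟩ := exists_extension_sup N P.isPGroup' hNp θ.2 hθ
      obtain ⟨t, -, ht, htd⟩ := IsIrrCharacter.exists_degree_dvd θ.2
      refine (mem_inertia_iff N).mp (sylow_le_inertia hpq hps hX N P Q₁ hπ hnb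
        (N ⊔ (P : Subgroup X)) le_sup_left le_sup_right η hη (d := t) ?_
        (fun h => hNp' (h.trans htd)) θ.1 θ.2 hres hθ hy)
      rw [← ht, ← hres 1]
      rfl
    refine ⟨P, Q₁, fun g hg => ?_⟩
    obtain ⟨m', hm', hgQ⟩ := hconj g hg
    have hgQ₁ : ∃ r ∈ N, g • Q₁ = r • Q₁ := by
      refine ⟨g * m * g⁻¹ * m' * m⁻¹, N.mul_mem (N.mul_mem (hNn.conj_mem m hm g) hm') (N.inv_mem hm), ?_⟩
      rw [hQ₁m, smul_smul, smul_smul, inv_mul_cancel_right, mul_smul _ m' Q, ← hgQ, smul_smul,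
        inv_mul_cancel_right]
    obtain ⟨r, hr, hrQ⟩ := hgQ₁
    rw [← smul_iff, hrQ, (smul_iff _ _)]
    -- the coset of `r` has a fixed point
    set Z := N ⊓ Subgroup.normalizer ((Q₁ : Subgroup X) : Set X) with hZ
    have hxg : ∀ x ∈ (P : Subgroup X), x • (r • Q₁) = r • Q₁ := by
      intro x hx
      rw [← hrQ, smul_smul]
      have hx' : g⁻¹ * x * g ∈ (P : Subgroup X) := by
        have := (Subgroup.mem_normalizer_iff.mp
          ((Subgroup.normalizer ((P : Subgroup X) : Set X)).inv_mem hg) x).mp hx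
        simpa using this
      rw [show x * g = g * (g⁻¹ * x * g) by group, mul_smul,
        (smul_iff _ _).2 (hPQ₁ hx')]
    let φ := Glauberman.conjHom N (P : Subgroup X) (fun s _ z hz => hNn.conj_mem z hz s)
    have hset : ∀ (a : ↥(P : Subgroup X)) (z : N), r⁻¹ * (z : X) ∈ Z → r⁻¹ * ((φ a z : N) : X) ∈ Z := by
      intro a z hz
      refine ⟨N.mul_mem (N.inv_mem hr) (φ a z).2, ?_⟩
      show r⁻¹ * ((φ a z : N) : X) ∈ Subgroup.normalizer ((Q₁ : Subgroup X) : Set X)
      rw [← smul_iff, mul_smul, inv_smul_eq_iff]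
      show ((a : X) * (z : X) * (a : X)⁻¹) • Q₁ = r • Q₁
      rw [mul_smul, (smul_iff _ _).2 (hPQ₁ (inv_mem a.2)), mul_smul]
      have hzr : (z : X) • Q₁ = r • Q₁ := by
        rw [← inv_smul_eq_iff, ← mul_smul, (smul_iff _ _).2 hz.2]
      rw [hzr, hxg a a.2]
    letI : MulAction ↥(P : Subgroup X) {z : N // r⁻¹ * (z : X) ∈ Z} :=
      { smul := fun a z => ⟨φ a z.1, hset a z.1 z.2⟩
        one_smul := fun z => Subtype.ext (by show φ 1 z.1 = z.1; rw [map_one]; rfl)
        mul_smul := fun a b z => Subtype.ext (by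
          show φ (a * b) z.1 = φ a (φ b z.1); rw [map_mul]; rfl) }
    obtain ⟨z, hz⟩ := exists_fixed_of_card P.isPGroup' {z : N // r⁻¹ * (z : X) ∈ Z} (by
      rw [Nat.card_congr (show {z : N // r⁻¹ * (z : X) ∈ Z} ≃ Z from
        { toFun := fun z => ⟨r⁻¹ * (z.1 : X), z.2⟩
          invFun := fun w => ⟨⟨r * (w : X), N.mul_mem hr w.2.1⟩, by simp⟩
          left_inv := fun z => Subtype.ext (Subtype.ext (by simp))
          right_inv := fun w => Subtype.ext (by simp) })]
      exact fun hd => hNp' (hd.trans (Subgroup.card_dvd_of_le inf_le_left)))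
    have hzP : (z.1 : X) ∈ Subgroup.centralizer ((P : Subgroup X) : Set X) :=
      Subgroup.mem_centralizer_iff.mpr fun x hx => mul_inv_eq_iff_eq_mul.mp
        (congrArg (fun t : {z : N // r⁻¹ * (z : X) ∈ Z} => ((t.1 : N) : X)) (hz ⟨x, hx⟩))
    have hzn := Subgroup.centralizer_le_normalizer _ (hfix _ z.1.2 hzP)
    have := mul_mem hzn (inv_mem z.2.2)
    simpa [mul_assoc] using this

theorem not_dvd_index_of_cross (hpq : p ≠ q) (hps : IsPSolvable p X) (hqs : IsPSolvable q X)
    (h : ∀ χ : IrrCharacter X, (∀ n ∈ pPrimeCore p X, (χ : X → ℂ) n = (χ : X → ℂ) 1) →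
      ¬ p ∣ charDegree (χ : X → ℂ) → ¬ q ∣ charDegree (χ : X → ℂ)) :
    ¬ q ∣ (pPrimeCore p X).index := by
  set K := pPrimeCore p X with hK
  haveI hKn : K.Normal := (Cores.pPrimeCore_mem p X).1
  have hc : Cross p q (X ⧸ K) := by
    intro χ hχ
    let χ' : IrrCharacter X :=
      ⟨_, IsIrrCharacter.comp_surjective χ.2 (QuotientGroup.mk' K) (QuotientGroup.mk'_surjective K)⟩
    have hd : charDegree (χ' : X → ℂ) = charDegree (χ : (X ⧸ K) → ℂ) := by
      simp [χ', charDegree, map_one]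
    refine hd ▸ h χ' (fun n hn => ?_) (hd.symm ▸ hχ)
    show (χ : (X ⧸ K) → ℂ) (QuotientGroup.mk' K n) = (χ : (X ⧸ K) → ℂ) (QuotientGroup.mk' K 1)
    rw [map_one, show QuotientGroup.mk' K n = 1 from (QuotientGroup.eq_one_iff n).2 hn]
  obtain ⟨P, Q, hPQ⟩ := exists_normalizer_le hpq _ (X ⧸ K) le_rfl
    (BlockHeights.isPSolvable_quot K hps) (BlockHeights.isPSolvable_quot K hqs) hc
  have h1 := not_dvd_pPrimeCore_index hpq (BlockHeights.isPSolvable_quot K hps) P Q
    (Subgroup.le_normalizer.trans hPQ)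
  rwa [Cores.pPrimeCore_quotient_pPrimeCore, Subgroup.index_bot, ← Subgroup.index_eq_card] at h1

theorem charDegree_dvd_index (N : Subgroup X) [N.Normal] (χ : IrrCharacter X)
    (hχ : ∀ n ∈ N, (χ : X → ℂ) n = (χ : X → ℂ) 1) : charDegree (χ : X → ℂ) ∣ N.index := by
  obtain ⟨ψ, hψ, he⟩ := IsIrrCharacter.exists_quotient χ.2 N hχ
  obtain ⟨d, -, hd, hdd⟩ := IsIrrCharacter.exists_degree_dvd hψ
  rw [charDegree_eq_of_apply_one (n := d) (by rw [congrFun he 1, Function.comp_apply, map_one, hd]),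
    Subgroup.index_eq_card]
  exact hdd

/-- Two Sylow subgroups commute when each lies in the other's core modulo. -/
theorem exists_commuting_sylow (hpq : p ≠ q) (h1 : ¬ q ∣ (pPrimeCore p X).index)
    (h2 : ¬ p ∣ (pPrimeCore q X).index) :
    ∃ (P : Sylow p X) (Q : Sylow q X), ∀ x ∈ (P : Subgroup X), ∀ y ∈ (Q : Subgroup X), x * y = y * x := by
  set Kp := pPrimeCore p X with hKp
  set Kq := pPrimeCore q X with hKq
  haveI hn1 : Kp.Normal := (Cores.pPrimeCore_mem p X).1
  haveI hn2 : Kq.Normal := (Cores.pPrimeCore_mem q X).1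
  obtain ⟨P⟩ : Nonempty (Sylow p X) := inferInstance
  have hPK : (P : Subgroup X) ≤ Kq := by
    intro x hx
    obtain ⟨j, hj⟩ := P.isPGroup' ⟨x, hx⟩
    have hxj : x ^ p ^ j = 1 := by have := congrArg Subtype.val hj; simpa using this
    obtain ⟨i, hi⟩ := exists_pow_eq_self_of_coprime (x := x) (n := Kq.index)
      ((((hp.out.coprime_iff_not_dvd).mpr h2).symm.pow_right j).coprime_dvd_right
        (orderOf_dvd_of_pow_eq_one hxj))
    rw [← hi]
    exact Kq.pow_mem (Subgroup.pow_index_mem Kq x) i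
  haveI := P.isPGroup'.isNilpotent
  obtain ⟨S, hS⟩ := Coprime.exists_invariant_sylow (A := (P : Subgroup X)) (K := Kp)
    (fun x _ => by rw [Subgroup.normalizer_eq_top]; trivial) (by
      obtain ⟨a, ha⟩ := P.isPGroup'.exists_card_eq
      rw [ha]
      exact Nat.Coprime.pow_left _ (hp.out.coprime_iff_not_dvd.mpr Cores.not_dvd_card_pPrimeCore))
    (Or.inl inferInstance) q
  obtain ⟨Q, hQ⟩ := Coprime.SylowNormalizes.exists_sylow_eq_map Kp h1 S
  refine ⟨P, Q, fun x hx y hy => ?_⟩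
  have hyK : y ∈ Kp := by
    rw [hQ] at hy
    exact Subgroup.map_subtype_le _ hy
  have hPQ : (P : Subgroup X) ≤ Subgroup.normalizer ((Q : Subgroup X) : Set X) := hQ ▸ hS
  have e1 : x * y * x⁻¹ * y⁻¹ ∈ (Q : Subgroup X) :=
    mul_mem ((Subgroup.mem_normalizer_iff.mp (hPQ hx) y).mp hy) (inv_mem hy)
  have e2 : x * y * x⁻¹ * y⁻¹ ∈ Kq := by
    rw [show x * y * x⁻¹ * y⁻¹ = x * (y * x⁻¹ * y⁻¹) by group]
    exact Kq.mul_mem (hPK hx) (hn2.conj_mem _ (Kq.inv_mem (hPK hx)) y)
  obtain ⟨a, ha⟩ := Q.isPGroup'.exists_card_eq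
  have hdis : (Q : Subgroup X) ⊓ Kq = ⊥ := Subgroup.inf_eq_bot_of_coprime (by
    rw [ha]
    exact Nat.Coprime.pow_left _ (hq.out.coprime_iff_not_dvd.mpr Cores.not_dvd_card_pPrimeCore))
  have e3 : x * y * x⁻¹ * y⁻¹ = 1 := by
    rw [← Subgroup.mem_bot, ← hdis]
    exact ⟨e1, e2⟩
  calc x * y = (x * y * x⁻¹ * y⁻¹) * (y * x) := by group
    _ = y * x := by rw [e3, one_mul]

end Cfsg.Agent.Lib.PrincipalTwoPrimes.CrossDegree
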