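import Cfsg.Agent.Lib.Blocks.PSolvable
import Cfsg.Agent.Lib.Characters.PPrimeDegree
import Cfsg.Agent.Lib.Characters.PSolvableSmallDegree
import Cfsg.Agent.Lib.Characters.PrincipalPSolvable
import Cfsg.Agent.Lib.Coprime.SchurZassenhaus

/-!
# The common kernel of the characters of degree prime to `p` in a `p`-solvable group
-/

set_option autoImplicit false
set_option linter.unusedSectionVars false
set_option linter.style.haveILetI false

namespace Cfsg.Agent.Lib.PrincipalTwoPrimes

open Cfsg Cfsg.Agent.Lib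
open scoped Pointwise

universe u

theorem commutator_le_coatom {T : Type u} [Group T] [Finite T] {p : ℕ} [Fact p.Prime]
    (hT : IsPGroup p T) {M : Subgroup T} (hM : IsCoatom M) : commutator T ≤ M := by
  haveI := Subgroup.NormalizerCondition.normal_of_coatom M
    (by haveI := hT.isNilpotent; exact Group.normalizerCondition_of_isNilpotent) hM
  obtain ⟨x, hx⟩ : ∃ x : T, x ∉ M := not_forall.1 fun h => hM.1 ((Subgroup.eq_top_iff' M).2 h)
  exact Subgroup.Normal.commutator_le_of_self_sup_commutative_eq_top (H := Subgroup.zpowers x)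
    (hM.2 _ (left_lt_sup.2 fun h => hx (h (Subgroup.mem_zpowers x)))) inferInstance

theorem eq_top_of_sup_commutator' {T : Type u} [Group T] [Finite T] {p : ℕ} [Fact p.Prime]
    (hT : IsPGroup p T) {S : Subgroup T} (h : S ⊔ commutator T = ⊤) : S = ⊤ := by
  obtain h' | ⟨M, hM, hSM⟩ := IsCoatomic.eq_top_or_exists_le_coatom S
  · exact h'
  · exact absurd (top_le_iff.1 (h ▸ sup_le hSM (commutator_le_coatom hT hM))) hM.1

variable {G : Type u} [Group G] [Finite G] {p : ℕ} [hp : Fact p.Prime]

/-- A normal `p`-subgroup in the kernel of all characters of degree prime to `p` leaves the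
`p'`-core trivial. -/
theorem pPrimeCore_quotient_eq_bot_of_kernel (N : Subgroup G) [N.Normal] (hN : IsPGroup p N)
    (hcore : pPrimeCore p G = ⊥)
    (hker : ∀ χ : IrrCharacter G, ¬ p ∣ charDegree (χ : G → ℂ) →
      ∀ n ∈ N, (χ : G → ℂ) n = (χ : G → ℂ) 1) :
    pPrimeCore p (G ⧸ N) = ⊥ := by
  classical
  haveI := Fintype.ofFinite G
  set W := (pPrimeCore p (G ⧸ N)).comap (QuotientGroup.mk' N) with hW
  haveI : W.Normal := inferInstance
  have hNW : N ≤ W := fun x hx => by
    rw [hW, Subgroup.mem_comap, QuotientGroup.mk'_apply, (QuotientGroup.eq_one_iff x).2 hx]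
    exact one_mem _
  have hrel : (N.relIndex W).Coprime p := by
    have h1 := Subgroup.card_mul_index (N.subgroupOf W)
    rw [Nat.card_congr (Subgroup.subgroupOfEquivOfLe hNW).toEquiv, hW,
      Cores.card_comap_mk'] at h1
    have h2 : N.relIndex W = Nat.card (pPrimeCore p (G ⧸ N)) :=
      Nat.eq_of_mul_eq_mul_left Nat.card_pos h1
    rw [h2]
    exact Cores.pPrimeCore_coprime p _
  obtain ⟨j, hj⟩ := hN.exists_card_eq
  haveI : (N.subgroupOf W).Normal := inferInstance
  have hcardN : Nat.card (N.subgroupOf W) = p ^ j := by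
    rw [Nat.card_congr (Subgroup.subgroupOfEquivOfLe hNW).toEquiv, hj]
  obtain ⟨L, hL⟩ := Subgroup.exists_right_complement'_of_coprime (N := N.subgroupOf W) (by
    rw [hcardN]
    exact (Nat.Coprime.pow_right j hrel).symm)
  set H : Subgroup G := L.map W.subtype with hH
  have hHW : H ≤ W := Subgroup.map_subtype_le L
  have hHcard : Nat.card H = N.relIndex W := by
    rw [hH, Nat.card_congr (L.equivMapOfInjective _ W.subtype_injective).toEquiv.symm, ← hL.symm.index_eq_card]
    rfl
  have hHcop : (Nat.card N).Coprime (Nat.card H) := by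
    rw [hj, hHcard]; exact (Nat.Coprime.pow_right j hrel).symm
  have hNH : N ⊔ H = W := by
    have h := congrArg (Subgroup.map W.subtype) hL.sup_eq_top
    rw [Subgroup.map_sup, Subgroup.map_subgroupOf_eq_of_le hNW, ← MonoidHom.range_eq_map,
      Subgroup.range_subtype] at h
    exact h
  have hdis : N ⊓ H = ⊥ := Subgroup.inf_eq_bot_of_coprime hHcop
  have hfr : ∀ g : G, ∃ n ∈ N, n⁻¹ * g ∈ Subgroup.normalizer (H : Set G) := by
    intro g
    obtain ⟨n, hn, hnK⟩ := Coprime.exists_conj_eq_of_le_sup (N := N) (H := H)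
      (K := MulAut.conj g • H) Subgroup.le_normalizer_of_normal hHcop
      (Or.inl (haveI := hN.isNilpotent; inferInstance))
      (Nat.card_congr (Subgroup.equivSMul (MulAut.conj g) H).toEquiv.symm)
      (by
        rw [hNH]
        rintro _ ⟨h, hh, rfl⟩
        exact (inferInstance : W.Normal).conj_mem h (hHW hh) g)
    refine ⟨n, hn, ?_⟩
    have h1 : MulAut.conj (n⁻¹ * g) • H = H := by
      rw [map_mul, mul_smul, ← hnK, smul_smul, ← map_mul, inv_mul_cancel, map_one, one_smul]
    rw [Subgroup.mem_normalizer_iff]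
    intro x
    conv_rhs => rw [← h1]
    rw [← MulAut.conj_apply, ← MulAut.smul_def, Subgroup.smul_mem_pointwise_smul_iff]
  set C := N ⊓ Subgroup.centralizer (H : Set G) with hC
  by_cases hCN : N ≤ C
  · -- `H` is normal, hence trivial
    have hcomm : ∀ n ∈ N, ∀ h ∈ H, h * n = n * h := fun n hn h hh =>
      Subgroup.mem_centralizer_iff.1 (hCN hn).2 h hh
    haveI : H.Normal := ⟨fun h hh g => by
      obtain ⟨n, hn, hng⟩ := hfr g
      have h1 := (Subgroup.mem_normalizer_iff.1 hng h).1 hh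
      have h2 : g * h * g⁻¹ = n⁻¹ * g * h * (n⁻¹ * g)⁻¹ := by
        have h3 := hcomm n hn _ h1
        calc g * h * g⁻¹ = n * (n⁻¹ * g * h * (n⁻¹ * g)⁻¹) * n⁻¹ := by group
          _ = _ := by rw [← h3, mul_inv_cancel_right]
      rw [h2]; exact h1⟩
    have hbot : H = ⊥ := by
      rw [← le_bot_iff, ← hcore]
      exact Cores.le_pPrimeCore inferInstance (hHcard ▸ hrel)
    rw [hbot, sup_bot_eq] at hNH
    rw [← Subgroup.map_comap_eq_self_of_surjective (QuotientGroup.mk'_surjective N)
      (pPrimeCore p (G ⧸ N)), ← hW, ← hNH, QuotientGroup.map_mk'_self]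
  exfalso
  obtain ⟨P⟩ : Nonempty (Sylow p G) := inferInstance
  have hNP : N ≤ (P : Subgroup G) :=
    (Cores.le_pCore inferInstance hN).trans (Cores.pCore_le_sylow P)
  set Y := C ⊔ ⁅N, N⁆ with hY
  have hYN : Y ≤ N := sup_le inf_le_left (Subgroup.commutator_le_self N)
  have hYne : ¬ N ≤ Y := by
    intro h
    apply hCN
    have h1 : Y.subgroupOf N = ⊤ := Subgroup.subgroupOf_eq_top.2 h
    have h2 : C.subgroupOf N ⊔ commutator N = ⊤ := by
      refine Subgroup.map_injective N.subtype_injective ?_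
      rw [Subgroup.map_sup, Subgroup.map_subgroupOf_eq_of_le inf_le_left,
        Subgroup.map_subtype_commutator, ← MonoidHom.range_eq_map, Subgroup.range_subtype]
      exact le_antisymm hYN h
    exact Subgroup.subgroupOf_eq_top.1 (eq_top_of_sup_commutator' hN h2)
  set PH := (P : Subgroup G) ⊓ Subgroup.normalizer (H : Set G) with hPH
  have hPHY : PH ≤ Subgroup.normalizer (Y : Set G) := by
    have key : ∀ x ∈ Subgroup.normalizer (H : Set G), ∀ y ∈ Y, x * y * x⁻¹ ∈ Y := by
      intro x hx y hy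
      have hle : Y.map (MulAut.conj x).toMonoidHom ≤ Y := by
        rw [hY, Subgroup.map_sup]
        refine sup_le_sup ?_ ?_
        · rintro _ ⟨c, ⟨hcN, hcC⟩, rfl⟩
          refine ⟨(inferInstance : N.Normal).conj_mem c hcN x, Subgroup.mem_centralizer_iff.2 fun h hh => ?_⟩
          have h1 : x⁻¹ * h * x ∈ H := by
            have := (Subgroup.mem_normalizer_iff.1 ((Subgroup.normalizer (H : Set G)).inv_mem hx) h).1 hh
            simpa using this
          have h2 := Subgroup.mem_centralizer_iff.1 hcC _ h1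
          show h * (x * c * x⁻¹) = x * c * x⁻¹ * h
          calc h * (x * c * x⁻¹) = x * (x⁻¹ * h * x * c) * x⁻¹ := by group
            _ = _ := by rw [h2]; group
        · rintro _ ⟨c, hc, rfl⟩
          exact (inferInstance : (⁅N, N⁆ : Subgroup G).Normal).conj_mem c hc x
      exact hle ⟨y, hy, rfl⟩
    intro x hx
    rw [Subgroup.mem_normalizer_iff]
    refine fun y => ⟨fun hy => key x hx.2 y hy, fun hy => ?_⟩
    simpa [mul_assoc] using key x⁻¹ ((Subgroup.normalizer (H : Set G)).inv_mem hx.2) _ hy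
  set S := Y ⊔ PH with hS
  have hSP : S ≤ (P : Subgroup G) := sup_le (hYN.trans hNP) inf_le_left
  have hNS : ∀ z ∈ N, z ∈ S → z ∈ Y := by
    intro z hz hzS
    rw [hS, ← SetLike.mem_coe, Subgroup.coe_mul_of_right_le_normalizer_left _ _ hPHY] at hzS
    obtain ⟨y, hy, x, hx, rfl⟩ := Set.mem_mul.1 hzS
    have hxN : x ∈ N := by simpa using N.mul_mem (N.inv_mem (hYN hy)) hz
    refine Y.mul_mem hy (Subgroup.mem_sup_left ⟨hxN, Subgroup.mem_centralizer_iff.2 fun h hh => ?_⟩)
    have h1 : x * h * x⁻¹ * h⁻¹ ∈ N ⊓ H := by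
      refine ⟨?_, H.mul_mem ((Subgroup.mem_normalizer_iff.1 hx.2 h).1 hh) (H.inv_mem hh)⟩
      rw [show x * h * x⁻¹ * h⁻¹ = x * (h * x⁻¹ * h⁻¹) by group]
      exact N.mul_mem hxN ((inferInstance : N.Normal).conj_mem _ (N.inv_mem hxN) h)
    rw [hdis, Subgroup.mem_bot, mul_inv_eq_one, mul_inv_eq_iff_eq_mul] at h1
    exact h1.symm
  have hgen : N.subgroupOf P ⊔ S.subgroupOf P = ⊤ := by
    rw [← Subgroup.subgroupOf_sup hNP hSP, Subgroup.subgroupOf_eq_top]
    intro g hg
    obtain ⟨n, hn, hng⟩ := hfr g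
    rw [show g = n * (n⁻¹ * g) by group]
    exact Subgroup.mul_mem_sup hn (Subgroup.mem_sup_right
      ⟨(P : Subgroup G).mul_mem ((P : Subgroup G).inv_mem (hNP hn)) hg, hng⟩)
  set K := S.subgroupOf P ⊔ commutator (P : Subgroup G) with hK
  haveI : K.Normal := Subgroup.Normal.of_commutator_le _ le_sup_right
  have hKne : K ≠ ⊤ := fun h => by
    have h1 := Subgroup.subgroupOf_eq_top.1 (eq_top_of_sup_commutator' P.isPGroup' h)
    exact hYne fun z hz => hNS z hz (h1 (hNP hz))
  obtain ⟨μ, hμ1, hμK⟩ := Characters.exists_irr_ne_one_trivial_on K hKne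
  have hμdeg : (μ : ↥(P : Subgroup G) → ℂ) 1 = 1 := by
    obtain ⟨η, hη, hμη⟩ := Characters.IsIrrCharacter.exists_quotient μ.2 K hμK
    have h := congrFun hμη 1
    rw [h, Function.comp_apply, map_one]
    refine Characters.IsIrrCharacter.apply_one_of_comm ?_ hη
    exact fun a b => ((Subgroup.Normal.quotient_commutative_iff_commutator_le).2 le_sup_right).is_comm.comm a b
  haveI := Fintype.ofFinite (P : Subgroup G)
  obtain ⟨χ, hχμ, hχp⟩ := Characters.exists_constituent_not_dvd (p := p)
    (Characters.IsCharacter.indFun (P : Subgroup G) (Characters.irr_isCharacter μ))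
    (d := (P : Subgroup G).index) (by rw [Characters.indFun_one, hμdeg, mul_one]) P.not_dvd_index
  rw [Characters.classInner_indFun _ _ (Characters.IsCharacter.isClassFunction (Characters.irr_isCharacter χ))] at hχμ
  have hχμ' : classInner (fun y : (P : Subgroup G) => (χ : G → ℂ) y) (μ : ↥(P : Subgroup G) → ℂ) ≠ 0 :=
    fun h => hχμ (by rw [← Characters.classInner_conj_symm, h, map_zero])
  have hμc := Characters.irr_isCharacter μ
  have hkerN : N.subgroupOf P ≤ Characters.charKernel hμc := fun y hy =>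
    Characters.apply_eq_of_classInner_ne_zero
      (Characters.IsCharacter.restrict (Characters.irr_isCharacter χ) _) μ.2 hχμ' (hker χ hχp (y : G) hy)
  have hkerS : S.subgroupOf P ≤ Characters.charKernel hμc := fun y hy => hμK y (Subgroup.mem_sup_left hy)
  refine hμ1 (funext fun y => ?_)
  rw [(Characters.mem_charKernel hμc).1 ((hgen ▸ sup_le hkerN hkerS :
    (⊤ : Subgroup (P : Subgroup G)) ≤ _) (Subgroup.mem_top y)), hμdeg]

/-- A normal subgroup in the kernel of all characters of degree prime to `p` is a `p`-group when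
the `p'`-core is trivial. -/
theorem isPGroup_of_kernel (hsolv : IsPSolvable p G) (hcore : pPrimeCore p G = ⊥)
    (R : Subgroup G) [R.Normal]
    (hker : ∀ χ : IrrCharacter G, ¬ p ∣ charDegree (χ : G → ℂ) →
      ∀ n ∈ R, (χ : G → ℂ) n = (χ : G → ℂ) 1) : IsPGroup p R := by
  set U := pCore p G ⊓ R with hU
  have hUp : IsPGroup p U := (Cores.pCore_isPGroup p G).to_le inf_le_left
  have hc := pPrimeCore_quotient_eq_bot_of_kernel U hUp hcore (fun χ hχ n hn => hker χ hχ n hn.2)
  set f := QuotientGroup.mk' U with hf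
  have hfs : Function.Surjective f := QuotientGroup.mk'_surjective U
  haveI : (R.map f).Normal := Subgroup.Normal.map inferInstance f hfs
  have hinf : pCore p (G ⧸ U) ⊓ R.map f = ⊥ := by
    rw [Subgroup.eq_bot_iff_forall]
    rintro _ ⟨hx, r, hr, rfl⟩
    have hle : (pCore p (G ⧸ U)).comap f ≤ pCore p G := by
      refine Cores.le_pCore inferInstance ((Cores.pCore_isPGroup p _).comap_of_ker_isPGroup f ?_)
      rw [hf, QuotientGroup.ker_mk']; exact hUp
    exact (QuotientGroup.eq_one_iff r).2 ⟨hle hx, hr⟩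
  have hcent : R.map f ≤ Subgroup.centralizer (pCore p (G ⧸ U) : Set (G ⧸ U)) := by
    intro r hr
    refine Subgroup.mem_centralizer_iff.2 fun x hx => ?_
    have h1 : x * r * x⁻¹ * r⁻¹ ∈ pCore p (G ⧸ U) ⊓ R.map f := by
      refine ⟨?_, (R.map f).mul_mem ((inferInstance : (R.map f).Normal).conj_mem r hr x) ((R.map f).inv_mem hr)⟩
      rw [show x * r * x⁻¹ * r⁻¹ = x * (r * x⁻¹ * r⁻¹) by group]
      exact mul_mem hx ((inferInstance : (pCore p (G ⧸ U)).Normal).conj_mem _ (inv_mem hx) r)
    rw [hinf, Subgroup.mem_bot, mul_inv_eq_one, mul_inv_eq_iff_eq_mul] at h1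
    exact h1
  have hle := Blocks.centralizer_pCore_le_of_isPSolvable p
    (Characters.isPSolvable_quotient_of U hsolv) hc
  have hbot : R.map f = ⊥ := by
    rw [← le_bot_iff, ← hinf]
    exact le_inf (hcent.trans hle) le_rfl
  rw [Subgroup.map_eq_bot_iff, hf, QuotientGroup.ker_mk'] at hbot
  exact hUp.to_le hbot

end Cfsg.Agent.Lib.PrincipalTwoPrimes

namespace Cfsg.Agent.Lib.PrincipalTwoPrimes

open Cfsg Cfsg.Agent.Lib

universe u

variable {G : Type u} [Group G] [Finite G] {p : ℕ} [hp : Fact p.Prime]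

/-- Equal surviving kernels: the quotient by `T` has trivial `p'`-core, and `T / O_{p'}(G)` is a
`p`-group. -/
theorem quotient_core_eq_bot (hsolv : IsPSolvable p G) (T : Subgroup G) [T.Normal]
    (hKT : pPrimeCore p G ≤ T)
    (hker : ∀ χ : IrrCharacter G, (∀ n ∈ pPrimeCore p G, (χ : G → ℂ) n = (χ : G → ℂ) 1) →
      ¬ p ∣ charDegree (χ : G → ℂ) → ∀ n ∈ T, (χ : G → ℂ) n = (χ : G → ℂ) 1) :
    pPrimeCore p (G ⧸ T) = ⊥ ∧ IsPGroup p (T.map (QuotientGroup.mk' (pPrimeCore p G))) := by
  classical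
  set K := pPrimeCore p G with hK
  haveI : K.Normal := (Cores.pPrimeCore_mem p G).1
  set f := QuotientGroup.mk' K with hf
  have hfs : Function.Surjective f := QuotientGroup.mk'_surjective K
  haveI hR : (T.map f).Normal := Subgroup.Normal.map inferInstance f hfs
  have hcore : pPrimeCore p (G ⧸ K) = ⊥ := Cores.pPrimeCore_quotient_pPrimeCore p G
  have hker' : ∀ η : IrrCharacter (G ⧸ K), ¬ p ∣ charDegree (η : G ⧸ K → ℂ) →
      ∀ r ∈ T.map f, (η : G ⧸ K → ℂ) r = (η : G ⧸ K → ℂ) 1 := by
    rintro η hη _ ⟨t, ht, rfl⟩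
    have h := hker ⟨_, Characters.IsIrrCharacter.comp_surjective η.2 f hfs⟩
      (fun n hn => by
        show (η : G ⧸ K → ℂ) (f n) = (η : G ⧸ K → ℂ) (f 1)
        rw [show f n = 1 from (QuotientGroup.eq_one_iff n).2 hn, map_one])
      (by simpa [charDegree] using hη) t ht
    simpa using h
  have hp' := isPGroup_of_kernel (Characters.isPSolvable_quotient_of K hsolv) hcore _ hker'
  have hc := pPrimeCore_quotient_eq_bot_of_kernel (T.map f) hp' hcore hker'
  refine ⟨?_, hp'⟩
  rw [← Cores.map_pPrimeCore_equiv (QuotientGroup.quotientQuotientEquivQuotient K T hKT), hc,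
    Subgroup.map_bot]

end Cfsg.Agent.Lib.PrincipalTwoPrimes
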